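import Mathlib
import Groth.Agent.CAlgBasics.ProjModIdeal

/-!
# Bijectivity of a map onto a flat module is detected on the closed fibre
-/

set_option autoImplicit false
set_option linter.style.haveILetI false

universe u

open TensorProduct

namespace Groth.Agent.FlatIsoLocus

theorem mem_smul_top_of_one_tmul {R R' M : Type u} [CommRing R] [CommRing R'] [Algebra R R']
    [AddCommGroup M] [Module R M] (hs : Function.Surjective (algebraMap R R')) (y : M)
    (hy : (1 : R') ⊗ₜ[R] y = 0) :
    y ∈ (RingHom.ker (algebraMap R R') • ⊤ : Submodule R M) := by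
  let e : R' ≃ₗ[R] R ⧸ RingHom.ker (algebraMap R R') :=
    (Ideal.quotientKerAlgEquivOfSurjective (f := Algebra.ofId R R') hs).symm.toLinearEquiv
  have he : e 1 = 1 :=
    map_one (Ideal.quotientKerAlgEquivOfSurjective (f := Algebra.ofId R R') hs).symm
  have h := congrArg (TensorProduct.quotTensorEquivQuotSMul M _ ∘ e.rTensor M) hy
  simp only [Function.comp_apply, LinearEquiv.rTensor_tmul, map_zero, he] at h
  rw [TensorProduct.quotTensorEquivQuotSMul_mk_one_tmul] at h
  exact (Submodule.Quotient.mk_eq_zero _).mp h

theorem smul_top_le_restrict {A R M : Type u} [CommRing A] [CommRing R] [Algebra A R]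
    [AddCommGroup M] [Module R M] [Module A M] [IsScalarTower A R M] (J : Ideal A) {y : M}
    (hy : y ∈ (J.map (algebraMap A R) • ⊤ : Submodule R M)) :
    y ∈ (J • ⊤ : Submodule A M) := by
  have key : ∀ r ∈ J.map (algebraMap A R), ∀ z : M, r • z ∈ (J • ⊤ : Submodule A M) := by
    intro r hr
    induction hr using Submodule.span_induction with
    | mem r hr =>
      obtain ⟨a, ha, rfl⟩ := hr
      intro z
      rw [algebraMap_smul]
      exact Submodule.smul_mem_smul ha Submodule.mem_top
    | zero => intro z; rw [zero_smul]; exact zero_mem _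
    | add a b _ _ ha hb => intro z; rw [add_smul]; exact add_mem (ha z) (hb z)
    | smul s a _ ha => intro z; rw [smul_assoc, smul_comm]; exact ha _
  exact Submodule.smul_induction_on hy (fun r hr z _ => key r hr z) fun a b ha hb => add_mem ha hb

theorem restrict_smul_le {A R M : Type u} [CommRing A] [CommRing R] [Algebra A R]
    [AddCommGroup M] [Module R M] [Module A M] [IsScalarTower A R M] (J : Ideal A)
    (K : Submodule R M) {y : M} (hy : y ∈ J • (K.restrictScalars A)) :
    y ∈ J.map (algebraMap A R) • K := by
  refine Submodule.smul_induction_on hy (fun a ha z hz => ?_) fun a b ha hb => add_mem ha hb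
  rw [← algebraMap_smul R a z]
  exact Submodule.smul_mem_smul (Ideal.mem_map_of_mem _ ha) hz

/-- A map of finitely presented modules with target flat over the base is bijective if it is so
on the closed fibre. -/
theorem bijective_of_lTensor {A R R' M N : Type u} [CommRing A] [CommRing R] [CommRing R']
    [IsLocalRing R] [Algebra A R] [Algebra R R'] (J : Ideal A)
    (hs : Function.Surjective (algebraMap R R'))
    (hker : RingHom.ker (algebraMap R R') = J.map (algebraMap A R))
    (hJ : J.map (algebraMap A R) ≤ IsLocalRing.maximalIdeal R)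
    [AddCommGroup M] [Module R M] [Module.Finite R M]
    [AddCommGroup N] [Module R N] [Module.FinitePresentation R N]
    [Module A M] [IsScalarTower A R M] [Module A N] [IsScalarTower A R N] [Module.Flat A N]
    (g : M →ₗ[R] N) (hg : Function.Bijective (g.lTensor R')) : Function.Bijective g := by
  have hjac : J.map (algebraMap A R) ≤ (⊥ : Ideal R).jacobson := by
    rw [IsLocalRing.jacobson_eq_maximalIdeal ⊥ bot_ne_top]; exact hJ
  have hsurj : Function.Surjective g := by
    rw [← LinearMap.range_eq_top, eq_top_iff]
    refine Submodule.le_of_le_smul_of_le_jacobson_bot (I := J.map (algebraMap A R))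
      Module.Finite.fg_top hjac fun n _ => ?_
    obtain ⟨t, ht⟩ := hg.2 ((1 : R') ⊗ₜ n)
    obtain ⟨m, rfl⟩ := TensorProduct.mk_surjective R M R' hs t
    rw [TensorProduct.mk_apply, LinearMap.lTensor_tmul] at ht
    have h0 := mem_smul_top_of_one_tmul hs (n - g m) (by rw [TensorProduct.tmul_sub, ht, sub_self])
    rw [hker] at h0
    rw [← add_sub_cancel (g m) n]
    exact Submodule.add_mem_sup ⟨m, rfl⟩ h0
  refine ⟨LinearMap.ker_eq_bot.mp (Submodule.eq_bot_of_le_smul_of_le_jacobson_bot
    (J.map (algebraMap A R)) _ (Module.FinitePresentation.fg_ker g hsurj) (fun y hy => ?_) hjac),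
    hsurj⟩
  have h0 := mem_smul_top_of_one_tmul hs y (hg.1 (by
    rw [LinearMap.lTensor_tmul, LinearMap.mem_ker.mp hy, TensorProduct.tmul_zero, map_zero]))
  rw [hker] at h0
  refine restrict_smul_le J _ ?_
  have h1 := CAlgBasics.mem_smul_ker_of_flat (g.restrictScalars A) hsurj J y hy
    (smul_top_le_restrict J h0)
  rwa [LinearMap.ker_restrictScalars] at h1

end Groth.Agent.FlatIsoLocus
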