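import Groth.Agent.PullbackMod.OpenLocus
import Groth.Agent.PdFlat.Sheaf
import Groth.Agent.EtAlgEasy.SupportConstr
import Groth.Agent.FibreDepth.Retro
import Groth.Agent.MonoFibre.HomogComp
import Groth.Agent.ExactConstrLib.LocFree

/-!
# The locus where a map onto a flat module is bijective: constructibility
-/

set_option autoImplicit false
set_option backward.isDefEq.respectTransparency false
set_option linter.style.haveILetI false

universe u

open CategoryTheory CategoryTheory.Limits AlgebraicGeometry TopologicalSpace Topology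
open Groth.Agent.PullbackMod

namespace Groth.Agent.FlatIsoLocus

theorem isLocallyConstructible_of_embeddings {X : Type u} [TopologicalSpace X] (s : Set X)
    (h : ∀ x : X, ∃ (B : Type u) (_ : CommRing B) (emb : PrimeSpectrum B → X),
      IsOpenEmbedding emb ∧ x ∈ Set.range emb ∧ IsConstructible (emb ⁻¹' s)) :
    IsLocallyConstructible s := by
  intro x
  obtain ⟨B, _, emb, ho, hx, hc⟩ := h x
  refine ⟨Set.range emb, ho.isOpen_range.mem_nhds hx, ho.isOpen_range, ?_⟩
  let e := ho.isEmbedding.toHomeomorph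
  have he : (Subtype.val ⁻¹' s : Set (Set.range emb)) = e.symm ⁻¹' (emb ⁻¹' s) := by
    ext y
    have hy : emb (e.symm y) = (y : X) := congrArg Subtype.val (e.apply_symm_apply y)
    simp only [Set.mem_preimage, hy]
  exact he ▸ hc.preimage_of_isOpenEmbedding e.symm.isOpenEmbedding

theorem isLocallyConstructible_compl' {X : Type u} [TopologicalSpace X] {s : Set X}
    (h : IsLocallyConstructible s) : IsLocallyConstructible sᶜ := fun x =>
  let ⟨U, hU, hUo, hc⟩ := h x
  ⟨U, hU, hUo, hc.compl⟩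

theorem quasiCompact_ι_of_isLocallyConstructible {Y : Scheme.{u}} (U : Y.Opens)
    (h : IsLocallyConstructible (U : Set Y)) : QuasiCompact U.ι := by
  refine MonoFibre.quasiCompact_ι_of_isRetrocompact U
    (FibreDepth.isRetrocompact_of_embeddings _ fun y => ?_)
  obtain ⟨_, ⟨V : Y.Opens, (hV : IsAffineOpen V), rfl⟩, hy, -⟩ :=
    Y.isBasis_affineOpens.exists_subset_of_mem_open (Set.mem_univ y) isOpen_univ
  exact ⟨Γ(Y, V), inferInstance, hV.fromSpec, hV.fromSpec.isOpenEmbedding,
    by rw [hV.range_fromSpec]; exact hy,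
    (h.preimage_of_isOpenEmbedding hV.fromSpec.isOpenEmbedding).isConstructible⟩

variable {X S : Scheme.{u}} {M N : X.Modules} [Coh.IsQCoh M] [Coh.IsQCoh N] (u : M ⟶ N)

/-- The points where the map on stalks is bijective. -/
def Omega : Set X := {x | Function.Bijective (stalkLin u x)}

/-- The points where the map on stalks is surjective. -/
def SurjLocus : Set X := {x | Function.Surjective (stalkLin u x)}

omit [Coh.IsQCoh M] [Coh.IsQCoh N] in
theorem mem_primeCompl_iff {W : X.Opens} (hW : IsAffineOpen W) (q : PrimeSpectrum Γ(X, W))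
    (a : Γ(X, W)) : hW.fromSpec q ∈ X.basicOpen a ↔ a ∉ q.asIdeal :=
  SetLike.ext_iff.mp (hW.fromSpec_preimage_basicOpen a) q

theorem preimage_compl_surjLocus {W : X.Opens} (hW : IsAffineOpen W) :
    hW.fromSpec ⁻¹' (SurjLocus u)ᶜ =
      Module.support Γ(X, W) (Γ(N, W) ⧸ LinearMap.range (FlatLocus.appL u W)) := by
  ext q
  have hx : hW.fromSpec q ∈ W := by
    rw [← SetLike.mem_coe, ← hW.range_fromSpec]; exact Set.mem_range_self _
  rw [Set.mem_preimage, Set.mem_compl_iff, ← not_iff_not, not_not, Module.notMem_support_iff']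
  refine (stalk_criteria u hW _ hx).2.1.trans ⟨fun h m => ?_, fun h n => ?_⟩
  · obtain ⟨n, rfl⟩ := Submodule.Quotient.mk_surjective _ m
    obtain ⟨s, hs, m, hm⟩ := h n
    exact ⟨s, (mem_primeCompl_iff hW q s).mp hs,
      by rw [← Submodule.Quotient.mk_smul, Submodule.Quotient.mk_eq_zero]; exact ⟨m, hm⟩⟩
  · obtain ⟨s, hs, h0⟩ := h (Submodule.Quotient.mk n)
    rw [← Submodule.Quotient.mk_smul, Submodule.Quotient.mk_eq_zero] at h0
    obtain ⟨m, hm⟩ := h0
    exact ⟨s, (mem_primeCompl_iff hW q s).mpr hs, m, hm⟩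

theorem preimage_compl_omega {W : X.Opens} (hW : IsAffineOpen W)
    (hWO : (W : Set X) ⊆ SurjLocus u) :
    hW.fromSpec ⁻¹' (Omega u)ᶜ =
      Module.support Γ(X, W) (LinearMap.ker (FlatLocus.appL u W)) := by
  ext q
  have hx : hW.fromSpec q ∈ W := by
    rw [← SetLike.mem_coe, ← hW.range_fromSpec]; exact Set.mem_range_self _
  rw [Set.mem_preimage, Set.mem_compl_iff, ← not_iff_not, not_not, Module.notMem_support_iff']
  refine ⟨fun h m => ?_, fun h => ⟨(stalk_criteria u hW _ hx).2.2.mpr fun m hm => ?_, hWO hx⟩⟩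
  · obtain ⟨s, hs, h0⟩ := (stalk_criteria u hW _ hx).2.2.mp h.1 m.1 m.2
    exact ⟨s, (mem_primeCompl_iff hW q s).mp hs, Subtype.ext h0⟩
  · obtain ⟨s, hs, h0⟩ := h ⟨m, hm⟩
    exact ⟨s, (mem_primeCompl_iff hW q s).mpr hs, congrArg Subtype.val h0⟩

theorem isConstructible_compl_surjLocus (hM : CohB1.IsFP M) (hN : CohB1.IsFP N) {W : X.Opens}
    (hW : IsAffineOpen W) : IsConstructible (hW.fromSpec ⁻¹' (SurjLocus u)ᶜ) := by
  rw [preimage_compl_surjLocus u hW]
  haveI := QCohLib.finitePresentation_sections M hM hW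
  haveI := QCohLib.finitePresentation_sections N hN hW
  haveI : Module.FinitePresentation Γ(X, W) (Γ(N, W) ⧸ LinearMap.range (FlatLocus.appL u W)) :=
    Module.finitePresentation_of_surjective _ (Submodule.mkQ_surjective _) (by
      rw [Submodule.ker_mkQ, LinearMap.range_eq_map]; exact Module.Finite.fg_top.map _)
  exact EtAlgEasy.SupportConstr.isConstructible_support

theorem isConstructible_compl_omega (f : X ⟶ S) [LocallyOfFinitePresentation f]
    (hM : CohB1.IsFP M) (hN : CohB1.IsFP N) (hflat : FlatMod.IsFlatOver f N)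
    {V : S.Opens} (hV : IsAffineOpen V) {W : X.Opens} (hW : IsAffineOpen W)
    (hWV : W ≤ f ⁻¹ᵁ V) (hWO : (W : Set X) ⊆ SurjLocus u) :
    IsConstructible (hW.fromSpec ⁻¹' (Omega u)ᶜ) := by
  rw [preimage_compl_omega u hW hWO]
  letI := (f.appLE V W hWV).hom.toAlgebra
  letI := Module.compHom Γ(N, W) (f.appLE V W hWV).hom
  haveI : IsScalarTower Γ(S, V) Γ(X, W) Γ(N, W) := .of_algebraMap_smul fun _ _ => rfl
  haveI : Algebra.FinitePresentation Γ(S, V) Γ(X, W) :=
    LocallyOfFinitePresentation.finitePresentation_appLE f hV hW hWV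
  haveI : Module.FinitePresentation Γ(X, W) Γ(M, W) := QCohLib.finitePresentation_sections M hM hW
  haveI : Module.FinitePresentation Γ(X, W) Γ(N, W) := QCohLib.finitePresentation_sections N hN hW
  haveI : Module.Flat Γ(S, V) Γ(N, W) := PdFlat.flat_of_forall_localized fun P hP => by
    let z : PrimeSpectrum Γ(X, W) := ⟨P, hP⟩
    have hx : hW.fromSpec z ∈ W := by
      rw [← SetLike.mem_coe, ← hW.range_fromSpec]; exact Set.mem_range_self _
    have h := (FlatLocus.isFlatOverAt_iff f N hV hW hWV (hW.fromSpec z) hx).mp (hflat _)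
    have hz : hW.primeIdealOf ⟨hW.fromSpec z, hx⟩ = z :=
      hW.fromSpec.isOpenEmbedding.injective (hW.fromSpec_primeIdealOf _)
    rw [hz] at h
    exact h
  let g := FlatLocus.appL u W
  have hg : Function.Surjective g := by
    rw [← LinearMap.range_eq_top, ← Submodule.Quotient.subsingleton_iff,
      ← Module.support_eq_empty_iff (R := Γ(X, W)), ← preimage_compl_surjLocus u hW]
    exact Set.eq_empty_iff_forall_notMem.mpr fun q hq => hq (hWO (by
      rw [← hW.range_fromSpec]; exact Set.mem_range_self _))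
  haveI := PdFlat.finitePresentation_ker_of_flat (A := Γ(S, V)) g hg
  exact EtAlgEasy.SupportConstr.isConstructible_support

theorem isLocallyConstructible_image_compl_omega (f : X ⟶ S) [LocallyOfFinitePresentation f]
    [QuasiCompact f] (hM : CohB1.IsFP M) (hN : CohB1.IsFP N) (hflat : FlatMod.IsFlatOver f N) :
    IsLocallyConstructible (f '' (Omega u)ᶜ) := by
  have h1 : IsLocallyConstructible (SurjLocus u)ᶜ :=
    isLocallyConstructible_of_embeddings _ fun x => by
      obtain ⟨_, ⟨W : X.Opens, (hW : IsAffineOpen W), rfl⟩, hx, -⟩ :=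
        X.isBasis_affineOpens.exists_subset_of_mem_open (Set.mem_univ x) isOpen_univ
      exact ⟨Γ(X, W), inferInstance, hW.fromSpec, hW.fromSpec.isOpenEmbedding,
        by rw [hW.range_fromSpec]; exact hx, isConstructible_compl_surjLocus u hM hN hW⟩
  let O : X.Opens := ⟨SurjLocus u, isOpen_stalk_surjective u (ExactConstrLib.isFT_of_isFP hN)⟩
  haveI : QuasiCompact O.ι :=
    quasiCompact_ι_of_isLocallyConstructible O (by
      have h := isLocallyConstructible_compl' h1
      rw [compl_compl] at h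
      exact h)
  have h2 : IsLocallyConstructible (O.ι ⁻¹' (Omega u)ᶜ) :=
    isLocallyConstructible_of_embeddings _ fun y => by
      obtain ⟨_, ⟨V : S.Opens, (hV : IsAffineOpen V), rfl⟩, hyV, -⟩ :=
        S.isBasis_affineOpens.exists_subset_of_mem_open (Set.mem_univ (f y.1)) isOpen_univ
      obtain ⟨_, ⟨W : X.Opens, (hW : IsAffineOpen W), rfl⟩, hxW, hWsub⟩ :=
        X.isBasis_affineOpens.exists_subset_of_mem_open (a := y.1) (u := ↑(O ⊓ f ⁻¹ᵁ V))
          ⟨y.2, hyV⟩ (O ⊓ f ⁻¹ᵁ V).2
      have hr : Set.range hW.fromSpec ⊆ Set.range O.ι := by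
        rw [hW.range_fromSpec, O.range_ι]; exact fun z hz => (hWsub hz).1
      let j := IsOpenImmersion.lift O.ι hW.fromSpec hr
      have hj : j ≫ O.ι = hW.fromSpec := IsOpenImmersion.lift_fac _ _ _
      haveI : IsOpenImmersion (j ≫ O.ι) := by rw [hj]; infer_instance
      haveI : IsOpenImmersion j := IsOpenImmersion.of_comp j O.ι
      have hj' : ∀ q, O.ι (j q) = hW.fromSpec q := fun q => by
        rw [← Scheme.Hom.comp_apply, hj]
      refine ⟨Γ(X, W), inferInstance, j, j.isOpenEmbedding, ?_, ?_⟩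
      · obtain ⟨q, hq⟩ : y.1 ∈ Set.range hW.fromSpec := by rw [hW.range_fromSpec]; exact hxW
        exact ⟨q, O.ι.isOpenEmbedding.injective ((hj' q).trans hq)⟩
      · have e : j ⁻¹' (O.ι ⁻¹' (Omega u)ᶜ) = hW.fromSpec ⁻¹' (Omega u)ᶜ := by
          ext q; simp only [Set.mem_preimage, hj']
        rw [e]
        exact isConstructible_compl_omega u f hM hN hflat hV hW (fun z hz => (hWsub hz).2)
          fun z hz => (hWsub hz).1
  have e : f '' (Omega u)ᶜ = f '' (SurjLocus u)ᶜ ∪ (O.ι ≫ f) '' (O.ι ⁻¹' (Omega u)ᶜ) := by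
    ext s
    constructor
    · rintro ⟨x, hx, rfl⟩
      by_cases h : x ∈ SurjLocus u
      · exact Or.inr ⟨⟨x, h⟩, hx, rfl⟩
      · exact Or.inl ⟨x, h, rfl⟩
    · rintro (⟨x, hx, rfl⟩ | ⟨y, hy, rfl⟩)
      · exact ⟨x, fun h => hx h.2, rfl⟩
      · exact ⟨O.ι y, hy, rfl⟩
  rw [e]
  exact (f.isLocallyConstructible_image h1).union ((O.ι ≫ f).isLocallyConstructible_image h2)

end Groth.Agent.FlatIsoLocus
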