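import Groth.Agent.FlatIsoLocus.Alg
import Groth.Agent.FlatIsoLocus.Constr
import Groth.Agent.PullbackMod.LimStalk
import Groth.Agent.FlatLocus.FibreStalk

/-!
# The open subscheme of the base over which a map onto a flat module becomes bijective
-/

set_option autoImplicit false
set_option backward.isDefEq.respectTransparency false
set_option linter.style.haveILetI false

universe u

open CategoryTheory CategoryTheory.Limits AlgebraicGeometry TopologicalSpace Topology
open Groth.Agent.PullbackMod
open scoped TensorProduct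

namespace Groth.Agent.FlatIsoLocus

variable {X S : Scheme.{u}} {M N : X.Modules} (u : M ⟶ N)

/-- A point lies in the bijectivity locus as soon as the restriction to its fibre is bijective
there. -/
theorem mem_omega_of_fibre (f : X ⟶ S) (hM : CohB1.IsFP M) (hN : CohB1.IsFP N)
    (hflat : FlatMod.IsFlatOver f N) (s : S) (z : f.fiber s)
    (hz : Function.Bijective (stalkLin ((Scheme.Modules.pullback (f.fiberι s)).map u) z)) :
    f.fiberι s z ∈ Omega u := by
  haveI := FibreDepth.isQCoh_of_isFP M hM
  haveI := FibreDepth.isQCoh_of_isFP N hN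
  haveI := finite_stalk_of_isFT (ExactConstrLib.isFT_of_isFP hM) (f.fiberι s z)
  haveI := finitePresentation_stalk_of_isFP hN (f.fiberι s z)
  letI := ((f.fiberι s).stalkMap z).hom.toAlgebra
  letI := (f.stalkMap (f.fiberι s z)).hom.toAlgebra
  letI := FlatMod.moduleStalkOver f M (f.fiberι s z)
  letI := FlatMod.moduleStalkOver f N (f.fiberι s z)
  haveI : IsScalarTower (S.presheaf.stalk (f (f.fiberι s z))) (X.presheaf.stalk (f.fiberι s z))
      (M.presheaf.stalk (f.fiberι s z)) := .of_algebraMap_smul fun _ _ => rfl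
  haveI : IsScalarTower (S.presheaf.stalk (f (f.fiberι s z))) (X.presheaf.stalk (f.fiberι s z))
      (N.presheaf.stalk (f.fiberι s z)) := .of_algebraMap_smul fun _ _ => rfl
  haveI : Module.Flat (S.presheaf.stalk (f (f.fiberι s z)))
      (N.presheaf.stalk (f.fiberι s z)) := hflat _
  exact bijective_of_lTensor (IsLocalRing.maximalIdeal (S.presheaf.stalk (f (f.fiberι s z))))
    (FlatLocus.fiberι_stalkMap_surjective f s z) (FlatLocus.ker_fiberι_stalkMap f s z)
    (Ideal.map_le_iff_le_comap.mpr fun a ha => map_nonunit (f.stalkMap (f.fiberι s z)).hom a ha)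
    (stalkLin u (f.fiberι s z))
    ⟨(injective_stalk_pullback_iff (f.fiberι s) u z).mp hz.1,
      (surjective_stalk_pullback_iff (f.fiberι s) u z).mp hz.2⟩

theorem bijective_pullback_of_bijective {X' : Scheme.{u}} (g : X' ⟶ X) (x' : X')
    (h : Function.Bijective (stalkLin u (g x'))) :
    Function.Bijective (stalkLin ((Scheme.Modules.pullback g).map u) x') := by
  letI := (g.stalkMap x').hom.toAlgebra
  exact ⟨(injective_stalk_pullback_iff g u x').mpr
    ((LinearEquiv.ofBijective _ h).lTensor (X'.presheaf.stalk x')).injective,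
    (surjective_stalk_pullback_iff g u x').mpr (LinearMap.lTensor_surjective _ h.2)⟩

theorem bijective_of_flat_pullback {X' : Scheme.{u}} (g : X' ⟶ X) [Flat g] (x' : X')
    (h : Function.Bijective (stalkLin ((Scheme.Modules.pullback g).map u) x')) :
    Function.Bijective (stalkLin u (g x')) := by
  letI := (g.stalkMap x').hom.toAlgebra
  haveI := faithfullyFlat_stalk g x'
  exact ⟨(Module.FaithfullyFlat.lTensor_injective_iff_injective _ _ _).mp
      ((injective_stalk_pullback_iff g u x').mp h.1),
    (Module.FaithfullyFlat.lTensor_surjective_iff_surjective _ _ _).mp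
      ((surjective_stalk_pullback_iff g u x').mp h.2)⟩

theorem isIso_pullback_comp_iff {X' X'' : Scheme.{u}} (g : X' ⟶ X) (g' : X'' ⟶ X') (k : X'' ⟶ X)
    (e : g' ≫ g = k) :
    IsIso ((Scheme.Modules.pullback k).map u) ↔
      IsIso ((Scheme.Modules.pullback g').map ((Scheme.Modules.pullback g).map u)) := by
  obtain ⟨a, b, h⟩ := exists_map_comp_conj u g g' k e
  rw [h, isIso_comp_left_iff, isIso_comp_right_iff]

theorem fiber_mem_omega_of_isIso (f : X ⟶ S) (hM : CohB1.IsFP M) (hN : CohB1.IsFP N)
    (hflat : FlatMod.IsFlatOver f N) {T : Scheme.{u}} (t : T ⟶ S)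
    (h : IsIso ((Scheme.Modules.pullback (pullback.fst f t)).map u)) (τ : T)
    (z : f.fiber (t τ)) : f.fiberι (t τ) z ∈ Omega u := by
  refine mem_omega_of_fibre u f hM hN hflat _ z ?_
  let q := f.fiberToSpecResidueField (t τ)
  let k := Spec.map (t.residueFieldMap τ)
  haveI : Flat k := inferInstance
  haveI : Surjective k := ⟨fun a => ⟨IsLocalRing.closedPoint _, Subsingleton.elim _ _⟩⟩
  let p := pullback.fst q k
  have hl : (p ≫ f.fiberι (t τ)) ≫ f = (pullback.snd q k ≫ T.fromSpecResidueField τ) ≫ t := by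
    rw [Category.assoc, Category.assoc, f.fiber_fac, ← Category.assoc,
      pullback.condition, Category.assoc, Scheme.Hom.SpecMap_residueFieldMap_fromSpecResidueField]
  let l := pullback.lift _ _ hl
  have hP : IsIso ((Scheme.Modules.pullback (p ≫ f.fiberι (t τ))).map u) :=
    (isIso_pullback_comp_iff u (pullback.fst f t) l _ (pullback.lift_fst _ _ hl)).mpr inferInstance
  have hP' := (isIso_pullback_comp_iff u (f.fiberι (t τ)) p _ rfl).mp hP
  obtain ⟨w, hw⟩ := p.surjective z
  subst hw
  exact bijective_of_flat_pullback _ p w ((isIso_iff_stalk _).mp hP' w)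

theorem exists_open_isIso_pullback (f : X ⟶ S) [IsProper f] [LocallyOfFinitePresentation f]
    (hM : CohB1.IsFP M) (hN : CohB1.IsFP N) (hflat : FlatMod.IsFlatOver f N) :
    ∃ U : S.Opens, QuasiCompact U.ι ∧
      ∀ (T : Scheme.{u}) (t : T ⟶ S),
        IsIso ((Scheme.Modules.pullback (pullback.fst f t)).map u) ↔
          Set.range t.base ⊆ (U : Set S) := by
  haveI := FibreDepth.isQCoh_of_isFP M hM
  haveI := FibreDepth.isQCoh_of_isFP N hN
  have hΩ : IsOpen (Omega u) := isOpen_stalk_bijective u (ExactConstrLib.isFT_of_isFP hM) hN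
  let U : S.Opens := ⟨(f '' (Omega u)ᶜ)ᶜ, (f.isClosedMap _ hΩ.isClosed_compl).isOpen_compl⟩
  refine ⟨U, quasiCompact_ι_of_isLocallyConstructible U (isLocallyConstructible_compl'
    (isLocallyConstructible_image_compl_omega u f hM hN hflat)), fun T t => ⟨fun h => ?_, fun h => ?_⟩⟩
  · rintro _ ⟨τ, rfl⟩ ⟨x, hx, he⟩
    obtain ⟨z, rfl⟩ : x ∈ Set.range (f.fiberι (t τ)) := by rw [f.range_fiberι]; exact he
    exact hx (fiber_mem_omega_of_isIso u f hM hN hflat t h τ z)
  · refine (isIso_iff_stalk _).mpr fun z => bijective_pullback_of_bijective u _ z ?_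
    by_contra hc
    refine h (Set.mem_range_self (pullback.snd f t z)) ⟨pullback.fst f t z, hc, ?_⟩
    rw [← Scheme.Hom.comp_apply, pullback.condition, Scheme.Hom.comp_apply]

end Groth.Agent.FlatIsoLocus
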